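import Cfsg.Agent.H146.LemmaY

/-!
# Commutators in `Ω` of an odd-dimensional quadratic space over a finite field of odd order
-/

set_option autoImplicit false
set_option linter.unusedSectionVars false

universe u v

namespace Cfsg.Agent.H146.Ore

open Module QuadraticMap
open Cfsg.Agent.ClassicalGeometry.Reflection Cfsg.Agent.ClassicalGeometry.SpinorSign
  Cfsg.Agent.ClassicalGeometry.OmegaIndex Cfsg.Agent.ClassicalGeometry.Universal
  Cfsg.Agent.ClassicalGeometry.CartanDieudonne Cfsg.Agent.ClassicalGeometry.GenReflections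

variable {ι : Type} [Fintype ι] [DecidableEq ι] {F : Type u} [Field F]

section G

variable {Q : QuadraticForm F (ι → F)}

theorem mem_Em_neg {s : Cfsg.isometryGroup F (⇑Q)} {x : ι → F} :
    x ∈ Em Q (negI Q * s) ↔ act Q s x = x := by
  rw [mem_Em, act_mul, act_negI, neg_inj]

/-- dimensions of the eigenspaces -/
theorem finrank_Em_neg (h2 : (2 : F) ≠ 0) {s : Cfsg.isometryGroup F (⇑Q)} (hs : s * s = 1) :
    finrank F (Em Q (negI Q * s)) + finrank F (Em Q s) = Fintype.card ι := by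
  have h1 : Em Q (negI Q * s) ⊔ Em Q s = ⊤ := by
    rw [eq_top_iff]
    intro x _
    obtain ⟨a, b, ha, hb, rfl⟩ := exists_decomp h2 hs x
    exact Submodule.add_mem_sup (mem_Em_neg.2 ha) hb
  have h3 : Em Q (negI Q * s) ⊓ Em Q s = ⊥ := by
    rw [eq_bot_iff]
    rintro x ⟨hx, hx'⟩
    rw [SetLike.mem_coe, mem_Em_neg] at hx
    have hx'' : act Q s x = -x := hx'
    rw [Submodule.mem_bot]
    have : (2 : F) • x = 0 := by
      rw [two_smul]
      nth_rewrite 1 [← hx]
      rw [hx'', neg_add_cancel]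
    exact (smul_eq_zero.1 this).resolve_left h2
  have := Submodule.finrank_sup_add_finrank_inf_eq (Em Q (negI Q * s)) (Em Q s)
  rw [h1, h3, finrank_bot, finrank_top, finrank_fintype_fun_eq_card] at this
  omega

theorem mem_Pp_Em (h2 : (2 : F) ≠ 0) (hQ : (polarBilin Q).Nondegenerate) {s : Cfsg.isometryGroup F (⇑Q)}
    (hs : s * s = 1) {z : ι → F} : z ∈ Pp Q (Em Q s) ↔ act Q s z = z := by
  constructor
  · intro hz
    obtain ⟨a, b, ha, hb, rfl⟩ := exists_decomp h2 hs z
    have h1 : b ∈ Em Q s ⊓ Pp Q (Em Q s) := by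
      refine ⟨hb, fun y hy => ?_⟩
      have := hz y hy
      rw [polar_add_right, polar_comm (⇑Q) y a, polar_eq_zero h2 s ha hy, zero_add] at this
      exact this
    rw [Em_nondeg h2 hQ hs, Submodule.mem_bot] at h1
    rw [h1, add_zero, ha]
  · intro hz y hy
    rw [polar_comm]
    exact polar_eq_zero h2 s hz hy

variable [Finite F]

/-- the radical of `E₊(s) ∩ a^⊥` -/
theorem rad_le (h2 : (2 : F) ≠ 0) (hQ : (polarBilin Q).Nondegenerate) {s : Cfsg.isometryGroup F (⇑Q)}
    (hs : s * s = 1) (a : ι → F) :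
    finrank F (Pp Q (Em Q s ⊔ Submodule.span F {a}) ⊓ Pp Q (Pp Q (Em Q s ⊔ Submodule.span F {a})) :
      Submodule F (ι → F)) ≤ 1 := by
  have : Pp Q (Em Q s ⊔ Submodule.span F {a}) ⊓ Pp Q (Pp Q (Em Q s ⊔ Submodule.span F {a})) ≤
      Submodule.span F {a + act Q s a} := by
    rw [Pp_Pp hQ]
    rintro z ⟨hz, hz'⟩
    rw [SetLike.mem_coe, Pp_sup, mem_Pp_Em h2 hQ hs] at hz
    obtain ⟨b, hb, v, hv, rfl⟩ := Submodule.mem_sup.1 hz'
    obtain ⟨c, rfl⟩ := Submodule.mem_span_singleton.1 hv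
    have hb' : act Q s b = -b := hb
    have h1 : (2 : F) • (b + c • a) = c • (a + act Q s a) := by
      rw [two_smul]
      nth_rewrite 1 [← hz.1]
      rw [map_add, hb', map_smul, smul_add]
      abel
    rw [Submodule.mem_span_singleton]
    refine ⟨2⁻¹ * c, ?_⟩
    rw [mul_smul, ← h1, smul_smul, inv_mul_cancel₀ h2, one_smul]
  exact (Submodule.finrank_mono this).trans ((finrank_span_le_card ({a + act Q s a} : Set (ι → F))).trans (by simp))

/-- the rank condition for `U^⊥` -/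
theorem rad_Pp (hQ : (polarBilin Q).Nondegenerate) (h2 : (2 : F) ≠ 0) {U : Submodule F (ι → F)}
    (hU : U = ⊥ ∨ ∃ u ∈ U, Q u ≠ 0) :
    finrank F (Pp Q U ⊓ Pp Q (Pp Q U) : Submodule F (ι → F)) + 1 ≤ max 1 (finrank F U) := by
  rw [Pp_Pp hQ]
  rcases hU with rfl | ⟨u, hu, hu0⟩
  · rw [inf_bot_eq, finrank_bot]; simp
  · have : Pp Q U ⊓ U < U := by
      refine lt_of_le_of_ne inf_le_right fun h => ?_
      have hu' : u ∈ Pp Q U ⊓ U := h.ge hu
      have h3 := hu'.1 u hu
      rw [polar_eq_two] at h3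
      exact mul_ne_zero h2 hu0 h3
    have := Submodule.finrank_lt_finrank_of_lt this
    omega

/-- reflections and their negatives realise all values -/
theorem exists_c (h2 : (2 : F) ≠ 0) (hQ : (polarBilin Q).Nondegenerate) (hodd : Odd (Fintype.card ι))
    {W : Submodule F (ι → F)} (hW : finrank F (W ⊓ Pp Q W : Submodule F (ι → F)) + 2 ≤ finrank F W)
    (τ : Fˣ × ℤˣ) (hτ : τ.1 = 1 ∨ τ.1 = -1) :
    ∃ a ∈ W, ∃ ha : Q a ≠ 0, ∃ ε : Cfsg.isometryGroup F (⇑Q), (ε = 1 ∨ ε = negI Q) ∧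
      del Q (ε * reflIso Q a ha) = τ := by
  classical
  have key : ∀ σ : ℤˣ, ∃ a ∈ W, ∃ ha : Q a ≠ 0, del Q (reflIso Q a ha) = (-1, σ) := by
    intro σ
    rcases sign_cases σ with rfl | rfl
    · obtain ⟨k, hk⟩ := FiniteField.exists_nonsquare (ringChar_ne_two h2)
      have hk0 : k ≠ 0 := by rintro rfl; exact hk IsSquare.zero
      obtain ⟨a, ha, hak⟩ := rep h2 hW k
      refine ⟨a, ha, by rw [hak]; exact hk0, ?_⟩
      rw [del_refl h2, if_neg (by rw [hak]; exact hk)]
    · obtain ⟨a, ha, hak⟩ := rep h2 hW 1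
      refine ⟨a, ha, by rw [hak]; exact one_ne_zero, ?_⟩
      rw [del_refl h2, if_pos (by rw [hak]; exact IsSquare.one)]
  rcases hτ with h | h
  · obtain ⟨a, ha, ha0, h3⟩ := key ((del Q (negI Q)).2⁻¹ * τ.2)
    refine ⟨a, ha, ha0, negI Q, Or.inr rfl, ?_⟩
    have h4 : (del Q (negI Q)).1 = -1 := by
      have h5 := del_fst h2 hQ _ (negI Q) negI_mul_negI rfl
      have h6 : Em Q (negI Q) = ⊤ := by
        rw [eq_top_iff]
        intro x _
        rw [mem_Em, act_negI]
      rw [h5, h6, finrank_top, finrank_fintype_fun_eq_card, hodd.neg_one_pow]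
    rw [map_mul, h3]
    apply Prod.ext
    · rw [Prod.fst_mul, h4, h]; simp
    · rw [Prod.snd_mul]; exact mul_inv_cancel_left _ _
  · obtain ⟨a, ha, ha0, h3⟩ := key τ.2
    refine ⟨a, ha, ha0, 1, Or.inl rfl, ?_⟩
    rw [one_mul, h3]
    apply Prod.ext
    · rw [h]
    · rfl

/-- two isometric involutions with product `g` -/
theorem exists_fac_grp (h2 : (2 : F) ≠ 0) (hQ : (polarBilin Q).Nondegenerate) (g : Cfsg.isometryGroup F (⇑Q)) :
    ∃ s t : Cfsg.isometryGroup F (⇑Q), s * s = 1 ∧ t * t = 1 ∧ s * t = g ∧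
      finrank F (Em Q s) ≤ finrank F (Em Q t) + 1 ∧ finrank F (Em Q t) ≤ finrank F (Em Q s) + 1 := by
  obtain ⟨s, t, hF, h1, h3⟩ := exists_fac h2 (B := polarBilin Q) (g := act Q g)
    (fun x y => by rw [polarBilin_apply_apply, polarBilin_apply_apply, polar_comm])
    (fun x hx => hQ.1 x hx)
    (fun x y => by rw [polarBilin_apply_apply, polarBilin_apply_apply, act_polar])
  have hQs : ∀ x, Q (s x) = Q x := by
    intro x
    have := hF.sB x x
    rw [polarBilin_apply_apply, polarBilin_apply_apply, polar_eq_two, polar_eq_two] at this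
    exact mul_left_cancel₀ h2 this
  have hQt : ∀ x, Q (t x) = Q x := by
    intro x
    have := hF.tB x x
    rw [polarBilin_apply_apply, polarBilin_apply_apply, polar_eq_two, polar_eq_two] at this
    exact mul_left_cancel₀ h2 this
  obtain ⟨s', hs'⟩ := exists_act (Q := Q) (f := s) (f' := s) hF.ss hF.ss hQs
  obtain ⟨t', ht'⟩ := exists_act (Q := Q) (f := t) (f' := t) hF.tt hF.tt hQt
  have e1 : LinearMap.ker (s + 1) = Em Q s' := by
    ext x
    rw [LinearMap.mem_ker, mem_Em, hs', LinearMap.add_apply, Module.End.one_apply, add_eq_zero_iff_eq_neg]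
  have e2 : LinearMap.ker (t + 1) = Em Q t' := by
    ext x
    rw [LinearMap.mem_ker, mem_Em, ht', LinearMap.add_apply, Module.End.one_apply, add_eq_zero_iff_eq_neg]
  refine ⟨s', t', ?_, ?_, ?_, ?_, ?_⟩
  · apply act_ext
    intro x
    rw [act_mul, hs', hs', hF.ss, act_one]
  · apply act_ext
    intro x
    rw [act_mul, ht', ht', hF.tt, act_one]
  · apply act_ext
    intro x
    rw [act_mul, ht', hs', hF.st]
  · rw [← e1, ← e2]; exact h1
  · rw [← e1, ← e2]; exact h3

/-- equal dimensions when the determinant is one -/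
theorem exists_fac_eq (h2 : (2 : F) ≠ 0) (hQ : (polarBilin Q).Nondegenerate) (g : Cfsg.isometryGroup F (⇑Q))
    (hg : (del Q g).1 = 1) :
    ∃ s t : Cfsg.isometryGroup F (⇑Q), s * s = 1 ∧ t * t = 1 ∧ s * t = g ∧
      finrank F (Em Q s) = finrank F (Em Q t) ∧ 2 * finrank F (Em Q s) ≤ Fintype.card ι := by
  obtain ⟨s, t, hs, ht, hst, h1, h3⟩ := exists_fac_grp h2 hQ g
  have heq : finrank F (Em Q s) = finrank F (Em Q t) := by
    have e1 := del_fst h2 hQ _ s hs rfl
    have e2 := del_fst h2 hQ _ t ht rfl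
    have e3 : (-1 : Fˣ) ^ (finrank F (Em Q s) + finrank F (Em Q t)) = 1 := by
      rw [pow_add, ← e1, ← e2, ← Prod.fst_mul, ← map_mul, hst, hg]
    rcases Nat.even_or_odd (finrank F (Em Q s) + finrank F (Em Q t)) with h | h
    · obtain ⟨k, hk⟩ := h
      omega
    · rw [h.neg_one_pow] at e3
      exact absurd e3 (neg_one_ne_one_units h2)
  by_cases hle : 2 * finrank F (Em Q s) ≤ Fintype.card ι
  · exact ⟨s, t, hs, ht, hst, heq, hle⟩
  · have f1 := finrank_Em_neg h2 hs
    have f2 := finrank_Em_neg h2 ht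
    refine ⟨negI Q * s, negI Q * t, ?_, ?_, ?_, by omega, by omega⟩
    · rw [show negI Q * s * (negI Q * s) = negI Q * (s * negI Q) * s by group, ← negI_comm,
        show negI Q * (negI Q * s) * s = (negI Q * negI Q) * (s * s) by group, negI_mul_negI, hs, one_mul]
    · rw [show negI Q * t * (negI Q * t) = negI Q * (t * negI Q) * t by group, ← negI_comm,
        show negI Q * (negI Q * t) * t = (negI Q * negI Q) * (t * t) by group, negI_mul_negI, ht, one_mul]
    · rw [show negI Q * s * (negI Q * t) = negI Q * (s * negI Q) * t by group, ← negI_comm,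
        show negI Q * (negI Q * s) * t = (negI Q * negI Q) * (s * t) by group, negI_mul_negI, hst, one_mul]

theorem commute_eps {ε y : Cfsg.isometryGroup F (⇑Q)} (hε : ε = 1 ∨ ε = negI Q) : Commute ε y := by
  rcases hε with rfl | rfl
  · exact Commute.one_left y
  · exact negI_comm y

theorem commute_refl {y : Cfsg.isometryGroup F (⇑Q)} {a : ι → F} (ha : Q a ≠ 0) (h : act Q y a = a) :
    Commute (reflIso Q a ha) y := by
  have := conj_refl ha ha y (Or.inl h)
  rw [mul_inv_eq_iff_eq_mul] at this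
  exact this.symm

/-- the final commutator computation -/
theorem commutator_eq {G : Type*} [Group G] {s y c d g : G} (hs : s * s = 1) (hg : s * (y * s * y⁻¹) = g)
    (hc : Commute c y) (hd : Commute d (s * c)) : g = (s * c) * (y * d) * (s * c)⁻¹ * (y * d)⁻¹ := by
  have h1 : s⁻¹ = s := by rw [inv_eq_iff_mul_eq_one, hs]
  calc g = s * y * s⁻¹ * y⁻¹ := by rw [← hg, h1]; group
    _ = s * (y * c) * c⁻¹ * s⁻¹ * y⁻¹ := by group
    _ = s * (c * y) * c⁻¹ * s⁻¹ * y⁻¹ := by rw [hc.eq]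
    _ = (s * c) * y * ((s * c)⁻¹ * d) * d⁻¹ * y⁻¹ := by group
    _ = (s * c) * y * (d * (s * c)⁻¹) * d⁻¹ * y⁻¹ := by rw [hd.inv_right.eq]
    _ = (s * c) * (y * d) * (s * c)⁻¹ * (y * d)⁻¹ := by group

/-- **Ore's theorem for odd-dimensional orthogonal groups** -/
theorem ore_odd (h2 : (2 : F) ≠ 0) (hQ : (polarBilin Q).Nondegenerate) {n : ℕ} (hn : 3 ≤ n)
    (hc : Fintype.card ι = 2 * n + 1) (g : Cfsg.isometryGroup F (⇑Q)) (hg : del Q g = 1) :
    ∃ a b : Cfsg.isometryGroup F (⇑Q), del Q a = 1 ∧ del Q b = 1 ∧ g = a * b * a⁻¹ * b⁻¹ := by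
  obtain ⟨s, t, hs, ht, hst, hm, hm2⟩ := exists_fac_eq h2 hQ g (by rw [hg]; rfl)
  have hdel : del Q s = del Q t := by
    have e1 : del Q s * del Q t = 1 := by rw [← map_mul, hst, hg]
    have e2 : del Q t * del Q t = 1 := by rw [← map_mul, ht, map_one]
    rw [← e2] at e1
    exact mul_right_cancel e1
  obtain ⟨y, U, hU1, hU2, hy1, hy2, -⟩ := exists_Y h2 hQ _ s t hs ht rfl hm.symm hdel
  have hodd : Odd (Fintype.card ι) := ⟨n, hc⟩
  have hfU := finrank_Pp hQ U
  have hrU := rad_Pp hQ h2 hU2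
  have hcases : ∀ x : Fˣ, x = 1 ∨ x = -1 → x⁻¹ = 1 ∨ x⁻¹ = -1 := by
    rintro x (rfl | rfl)
    · left; simp
    · right; simp
  obtain ⟨a, haW, ha, ε, hε, hεa⟩ := exists_c h2 hQ hodd (W := Pp Q U) (by omega) (del Q s)⁻¹
    (hcases _ (del_fst_cases h2 hQ s))
  have hr' := rad_le h2 hQ hs a
  have hf' := finrank_Pp hQ (Em Q s ⊔ Submodule.span F {a})
  have hf'' := Submodule.finrank_add_le_finrank_add_finrank (Em Q s) (Submodule.span F {a})
  have hf3 : finrank F (Submodule.span F {a}) ≤ 1 := (finrank_span_le_card ({a} : Set (ι → F))).trans (by simp)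
  obtain ⟨p, hpW, hp, ε', hε', hεp⟩ := exists_c h2 hQ hodd
    (W := Pp Q (Em Q s ⊔ Submodule.span F {a})) (by omega) (del Q y)⁻¹
    (hcases _ (del_fst_cases h2 hQ y))
  rw [Pp_sup, mem_Pp_Em h2 hQ hs] at hpW
  have hcy : Commute (ε * reflIso Q a ha) y :=
    (commute_eps hε).mul_left (commute_refl ha (hy2 a haW))
  have hds : Commute (ε' * reflIso Q p hp) (s * (ε * reflIso Q a ha)) := by
    refine (commute_eps hε').mul_left (Commute.mul_right (commute_refl hp hpW.1)
      (Commute.mul_right (commute_eps hε).symm ?_))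
    exact commute_refl hp (act_refl_of_perp ha hpW.2)
  refine ⟨s * (ε * reflIso Q a ha), y * (ε' * reflIso Q p hp), ?_, ?_, ?_⟩
  · rw [map_mul, hεa, mul_inv_cancel]
  · rw [map_mul, hεp, mul_inv_cancel]
  · exact commutator_eq hs (by rw [hy1, hst]) hcy hds

end G

end Cfsg.Agent.H146.Ore
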