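import Cfsg.Agent.H146.Refl

/-!
# Conjugating one involution of an orthogonal group to another by few reflections
-/

set_option autoImplicit false
set_option linter.unusedSectionVars false

universe u v

namespace Cfsg.Agent.H146.Ore

open Module QuadraticMap
open Cfsg.Agent.ClassicalGeometry.Reflection Cfsg.Agent.ClassicalGeometry.SpinorSign
  Cfsg.Agent.ClassicalGeometry.OmegaIndex Cfsg.Agent.ClassicalGeometry.Universal
  Cfsg.Agent.ClassicalGeometry.CartanDieudonne Cfsg.Agent.ClassicalGeometry.GenReflections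

variable {ι : Type} [Fintype ι] [DecidableEq ι] {F : Type u} [Field F]

section Y

variable {Q : QuadraticForm F (ι → F)} [Finite F]

variable (Q) in
/-- determinant and spinor norm -/
noncomputable def del : Cfsg.isometryGroup F (⇑Q) →* Fˣ × ℤˣ := detSpinor (⇑Q) (1 : F)

theorem del_refl (h2 : (2 : F) ≠ 0) {v : ι → F} (hv : Q v ≠ 0) [Decidable (IsSquare (Q v))] :
    del Q (reflIso Q v hv) = (-1, if IsSquare (Q v) then -1 else 1) := by
  classical
  have := detSpinor_reflIso h2 Q (one_ne_zero (α := F)) v hv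
  simp only [one_mul] at this
  unfold del
  rw [this]

theorem del_refl_iff (h2 : (2 : F) ≠ 0) {v w : ι → F} (hv : Q v ≠ 0) (hw : Q w ≠ 0) :
    del Q (reflIso Q v hv) = del Q (reflIso Q w hw) ↔ IsSquare (Q v * Q w) := by
  classical
  rw [del_refl h2, del_refl h2, isSquare_mul_iff h2 hv hw]
  have : (-1 : ℤˣ) ≠ 1 := by decide
  have : (1 : ℤˣ) ≠ -1 := by decide
  by_cases h : IsSquare (Q v) <;> by_cases h' : IsSquare (Q w) <;> simp [h, h', *]

theorem del_conj (g h : Cfsg.isometryGroup F (⇑Q)) : del Q (g * h * g⁻¹) = del Q h := by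
  rw [map_mul, map_mul, map_inv, mul_comm (del Q g), mul_assoc, mul_inv_cancel, mul_one]

/-- conjugation preserves the dimension of the `(-1)`-eigenspace -/
theorem finrank_Em_conj (g s : Cfsg.isometryGroup F (⇑Q)) :
    finrank F (Em Q (g * s * g⁻¹)) = finrank F (Em Q s) := by
  have key : ∀ (g s : Cfsg.isometryGroup F (⇑Q)), finrank F (Em Q s) ≤ finrank F (Em Q (g * s * g⁻¹)) := by
    intro g s
    have hinj : Function.Injective (act Q g) := by
      intro x y hxy
      have := congrArg (act Q g⁻¹) hxy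
      rwa [← act_mul, ← act_mul, inv_mul_cancel, act_one, act_one] at this
    rw [(Submodule.equivMapOfInjective (act Q g) hinj (Em Q s)).finrank_eq]
    apply Submodule.finrank_mono
    rintro _ ⟨x, hx, rfl⟩
    have hx' : act Q s x = -x := hx
    rw [mem_Em, ← act_mul, inv_mul_cancel_right, act_mul, hx', map_neg]
  apply le_antisymm _ (key g s)
  have := key g⁻¹ (g * s * g⁻¹)
  rwa [show g⁻¹ * (g * s * g⁻¹) * g⁻¹⁻¹ = s by group] at this

/-- one of `x ± x'` is nonsingular and its reflection maps `x` to `±x'` -/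
theorem exists_swap (h2 : (2 : F) ≠ 0) {x x' : ι → F} (hx : Q x ≠ 0) (h : Q x = Q x') :
    ∃ e : ι → F, ∃ he : Q e ≠ 0, (e = x - x' ∨ e = x + x') ∧
      (act Q (reflIso Q e he) x = x' ∨ act Q (reflIso Q e he) x = -x') := by
  by_cases h1 : Q (x - x') = 0
  · have h3 : Q (x + x') ≠ 0 := by
      intro h4
      have e1 := map_add' Q x x'
      have e2 := map_add' Q x (-x')
      rw [← sub_eq_add_neg, h1, QuadraticMap.map_neg, polar_neg_right] at e2
      rw [h4] at e1
      apply hx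
      have : (2 : F) * (2 * Q x) = 0 := by
        linear_combination (norm := skip) -e1 - e2
        rw [h]; ring
      rcases mul_eq_zero.1 this with h5 | h5
      · exact absurd h5 h2
      · exact (mul_eq_zero.1 h5).resolve_left h2
    refine ⟨x + x', h3, Or.inr rfl, Or.inr ?_⟩
    rw [act_reflIso]
    have e1 := map_add' Q x x'
    have : polar (⇑Q) (x + x') x = Q (x + x') := by
      rw [polar_add_left, polar_eq_two, e1, polar_comm (⇑Q) x' x, ← h]; ring
    rw [this, inv_mul_cancel₀ h3, one_smul]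
    abel
  · refine ⟨x - x', h1, Or.inl rfl, Or.inl ?_⟩
    rw [act_reflIso]
    have e2 := map_add' Q x (-x')
    rw [← sub_eq_add_neg, QuadraticMap.map_neg, polar_neg_right] at e2
    have : polar (⇑Q) (x - x') x = Q (x - x') := by
      rw [polar_sub_left, polar_eq_two, e2, polar_comm (⇑Q) x' x, ← h]; ring
    rw [this, inv_mul_cancel₀ h1, one_smul]
    abel

theorem Pp_sup {U : Submodule F (ι → F)} {e z : ι → F} :
    z ∈ Pp Q (U ⊔ Submodule.span F {e}) ↔ z ∈ Pp Q U ∧ polar (⇑Q) e z = 0 := by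
  constructor
  · intro h
    exact ⟨fun y hy => h y (Submodule.mem_sup_left hy),
      h e (Submodule.mem_sup_right (Submodule.mem_span_singleton_self e))⟩
  · rintro ⟨h1, h3⟩ y hy
    obtain ⟨a, ha, b, hb, rfl⟩ := Submodule.mem_sup.1 hy
    obtain ⟨c, rfl⟩ := Submodule.mem_span_singleton.1 hb
    rw [polar_add_left, polar_smul_left, h1 a ha, h3, smul_zero, add_zero]

theorem act_refl_of_perp {e z : ι → F} (he : Q e ≠ 0) (h : polar (⇑Q) e z = 0) :
    act Q (reflIso Q e he) z = z := by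
  rw [act_reflIso, h]; simp

/-- **Lemma Y** -/
theorem exists_Y (h2 : (2 : F) ≠ 0) (hQ : (polarBilin Q).Nondegenerate) (m : ℕ) :
    ∀ s t : Cfsg.isometryGroup F (⇑Q), s * s = 1 → t * t = 1 → finrank F (Em Q s) = m →
      finrank F (Em Q t) = m → del Q s = del Q t →
      ∃ (y : Cfsg.isometryGroup F (⇑Q)) (U : Submodule F (ι → F)), finrank F U ≤ m ∧
        (U = ⊥ ∨ ∃ u ∈ U, Q u ≠ 0) ∧ y * s * y⁻¹ = t ∧ (∀ z ∈ Pp Q U, act Q y z = z) ∧
        ∀ z, act Q s z = z → act Q t z = z → z ∈ Pp Q U := by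
  induction m with
  | zero =>
    intro s t hs ht hms hmt _
    refine ⟨1, ⊥, by simp, Or.inl rfl, ?_, fun z _ => act_one Q z, ?_⟩
    · rw [eq_one_of_Em h2 hs hms, eq_one_of_Em h2 ht hmt]; group
    · intro z _ _ y hy
      rw [Submodule.mem_bot] at hy
      rw [hy]; simp
  | succ m ih =>
    intro s t hs ht hms hmt hst
    obtain ⟨x, x', hx, hx', hQx, hxx⟩ : ∃ x x', act Q s x = -x ∧ act Q t x' = -x' ∧ Q x ≠ 0 ∧ Q x = Q x' := by
      rcases Nat.eq_zero_or_pos m with rfl | hm
      · obtain ⟨x, hx, hx0⟩ := exists_ns h2 hQ hs (by omega)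
        obtain ⟨x', hx', hx0'⟩ := exists_ns h2 hQ ht (by omega)
        obtain ⟨p1, -, -, -, p2⟩ := peel h2 hs hx0 hx
        obtain ⟨p1', -, -, -, p2'⟩ := peel h2 ht hx0' hx'
        have es : s = reflIso Q x hx0 := by
          have := eq_one_of_Em h2 p1 (by omega)
          rw [mul_eq_one_iff_eq_inv] at this
          rw [this, inv_eq_iff_mul_eq_one, reflIso_mul_self]
        have et : t = reflIso Q x' hx0' := by
          have := eq_one_of_Em h2 p1' (by omega)
          rw [mul_eq_one_iff_eq_inv] at this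
          rw [this, inv_eq_iff_mul_eq_one, reflIso_mul_self]
        rw [es, et, del_refl_iff h2] at hst
        obtain ⟨k, hk⟩ := hst
        refine ⟨x, (k / Q x') • x', hx, ?_, hx0, ?_⟩
        · rw [map_smul, show act Q t x' = -x' from hx', smul_neg]
        · rw [QuadraticMap.map_smul, smul_eq_mul]
          field_simp
          rw [hk]; ring
      · have e1 : finrank F (Em Q s ⊓ Pp Q (Em Q s) : Submodule F (ι → F)) + 2 ≤ finrank F (Em Q s) := by
          rw [Em_nondeg h2 hQ hs, finrank_bot]; omega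
        have e2 : finrank F (Em Q t ⊓ Pp Q (Em Q t) : Submodule F (ι → F)) + 2 ≤ finrank F (Em Q t) := by
          rw [Em_nondeg h2 hQ ht, finrank_bot]; omega
        obtain ⟨x, hx, hx1⟩ := rep h2 e1 1
        obtain ⟨x', hx', hx1'⟩ := rep h2 e2 1
        exact ⟨x, x', hx, hx', by rw [hx1]; exact one_ne_zero, by rw [hx1, hx1']⟩
    have hQx' : Q x' ≠ 0 := hxx ▸ hQx
    obtain ⟨e, he, hee, hρ⟩ := exists_swap h2 hQx hxx
    have hρx : act Q (reflIso Q e he) x = x' ∨ act Q (reflIso Q e he) x = -x' := hρ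
    -- `s' = ρ s ρ⁻¹`
    obtain ⟨ρ, hρdef⟩ : ∃ ρ, ρ = reflIso Q e he := ⟨_, rfl⟩
    rw [← hρdef] at hρx
    have hρinv : ∀ z, act Q ρ⁻¹ z = act Q ρ z := by
      intro z
      have : ρ⁻¹ = ρ := by rw [inv_eq_iff_mul_eq_one, hρdef, reflIso_mul_self]
      rw [this]
    have hs' : (ρ * s * ρ⁻¹) * (ρ * s * ρ⁻¹) = 1 := by
      rw [show ρ * s * ρ⁻¹ * (ρ * s * ρ⁻¹) = ρ * (s * s) * ρ⁻¹ by group, hs]; group
    have hs'x : act Q (ρ * s * ρ⁻¹) x' = -x' := by
      rcases hρx with h | h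
      · have : act Q ρ⁻¹ x' = x := act_inv_eq Q ρ x x' h
        rw [act_mul, act_mul, this, hx, map_neg, h]
      · have : act Q ρ⁻¹ (-x') = x := act_inv_eq Q ρ x (-x') h
        rw [map_neg] at this
        have h3 : act Q ρ⁻¹ x' = -x := by rw [← this, neg_neg]
        rw [act_mul, act_mul, h3, map_neg, hx, neg_neg, h]
    obtain ⟨q1, q2, q3, q4, q5⟩ := peel h2 hs' hQx' hs'x
    obtain ⟨r1, r2, r3, r4, r5⟩ := peel h2 ht hQx' hx'
    rw [finrank_Em_conj, hms] at q5
    rw [hmt] at r5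
    obtain ⟨y₁, U₁, i1, i2, i3, i4, i5⟩ := ih _ _ q1 r1 (by omega) (by omega)
      (by rw [map_mul, map_mul (del Q) t, del_conj, hst])
    have hx'U : x' ∈ Pp Q U₁ := i5 x' q4 r4
    have hy1x : act Q y₁ x' = x' := i4 x' hx'U
    have hy1r : y₁ * reflIso Q x' hQx' * y₁⁻¹ = reflIso Q x' hQx' := conj_refl hQx' hQx' y₁ (Or.inl hy1x)
    refine ⟨y₁ * ρ, U₁ ⊔ Submodule.span F {e}, ?_, ?_, ?_, ?_, ?_⟩
    · have h5 := Submodule.finrank_add_le_finrank_add_finrank U₁ (Submodule.span F {e})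
      have h6 : finrank F (Submodule.span F {e}) ≤ 1 := (finrank_span_le_card ({e} : Set (ι → F))).trans (by simp)
      omega
    · exact Or.inr ⟨e, Submodule.mem_sup_right (Submodule.mem_span_singleton_self e), he⟩
    · have hsplit : ρ * s * ρ⁻¹ = (ρ * s * ρ⁻¹ * reflIso Q x' hQx') * reflIso Q x' hQx' := by
        rw [mul_assoc (ρ * s * ρ⁻¹), reflIso_mul_self, mul_one]
      calc y₁ * ρ * s * (y₁ * ρ)⁻¹ = y₁ * (ρ * s * ρ⁻¹) * y₁⁻¹ := by group
        _ = y₁ * ((ρ * s * ρ⁻¹ * reflIso Q x' hQx') * reflIso Q x' hQx') * y₁⁻¹ := by rw [← hsplit]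
        _ = (y₁ * (ρ * s * ρ⁻¹ * reflIso Q x' hQx') * y₁⁻¹) * (y₁ * reflIso Q x' hQx' * y₁⁻¹) := by group
        _ = t := by rw [i3, hy1r, mul_assoc, reflIso_mul_self, mul_one]
    · intro z hz
      rw [Pp_sup] at hz
      rw [act_mul, hρdef, act_refl_of_perp he hz.2, i4 z hz.1]
    · intro z hz hz'
      have hxz : polar (⇑Q) x z = 0 := by rw [polar_comm]; exact polar_eq_zero h2 s hz hx
      have hxz' : polar (⇑Q) x' z = 0 := by rw [polar_comm]; exact polar_eq_zero h2 t hz' hx'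
      have hez : polar (⇑Q) e z = 0 := by
        rcases hee with rfl | rfl
        · rw [polar_sub_left, hxz, hxz', sub_zero]
        · rw [polar_add_left, hxz, hxz', add_zero]
      have hρz : act Q ρ z = z := by rw [hρdef]; exact act_refl_of_perp he hez
      rw [Pp_sup]
      refine ⟨i5 z ?_ (r3 z hz'), hez⟩
      apply q3
      rw [act_mul, act_mul, hρinv, hρz, hz, hρz]

/-- determinant of an involution -/
theorem del_fst (h2 : (2 : F) ≠ 0) (hQ : (polarBilin Q).Nondegenerate) (m : ℕ) :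
    ∀ s : Cfsg.isometryGroup F (⇑Q), s * s = 1 → finrank F (Em Q s) = m → (del Q s).1 = (-1) ^ m := by
  classical
  induction m with
  | zero =>
    intro s hs hm
    rw [eq_one_of_Em h2 hs hm, map_one, pow_zero]
    rfl
  | succ m ih =>
    intro s hs hm
    obtain ⟨x, hx, hx0⟩ := exists_ns h2 hQ hs (by omega)
    obtain ⟨p1, -, -, -, p2⟩ := peel h2 hs hx0 hx
    have h3 := ih _ p1 (by omega)
    rw [map_mul, del_refl h2, Prod.fst_mul] at h3
    rw [pow_succ, ← h3]
    simp

theorem del_fst_cases (h2 : (2 : F) ≠ 0) (hQ : (polarBilin Q).Nondegenerate)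
    (g : Cfsg.isometryGroup F (⇑Q)) : (del Q g).1 = 1 ∨ (del Q g).1 = -1 := by
  classical
  refine isometry_induction h2 Q hQ (fun g => (del Q g).1 = 1 ∨ (del Q g).1 = -1) (Or.inl ?_) ?_ g
  · rw [map_one]; rfl
  · intro u hu g hg
    rw [map_mul, del_refl h2, Prod.fst_mul]
    rcases hg with hg | hg <;> rw [hg]
    · right; simp
    · left; simp

theorem sign_cases (z : ℤˣ) : z = 1 ∨ z = -1 := Int.units_eq_one_or z

end Y

end Cfsg.Agent.H146.Ore
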