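import Cfsg.Agent.H146.Invol
import Cfsg.Agent.ClassicalGeometry.OmegaIndex
import Cfsg.Agent.ClassicalGeometry.GenReflections

/-!
# Involutions in orthogonal groups as products of reflections
-/

set_option autoImplicit false
set_option linter.unusedSectionVars false

universe u v

namespace Cfsg.Agent.H146.Ore

open Module QuadraticMap
open Cfsg.Agent.ClassicalGeometry.Reflection Cfsg.Agent.ClassicalGeometry.SpinorSign
  Cfsg.Agent.ClassicalGeometry.OmegaIndex Cfsg.Agent.ClassicalGeometry.Universal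
  Cfsg.Agent.ClassicalGeometry.CartanDieudonne Cfsg.Agent.ClassicalGeometry.GenReflections

variable {ι : Type} [Fintype ι] [DecidableEq ι] {F : Type u} [Field F]

section Basic

variable (Q : QuadraticForm F (ι → F))

/-- the orthogonal complement -/
def Pp (W : Submodule F (ι → F)) : Submodule F (ι → F) where
  carrier := {x | ∀ y ∈ W, polar (⇑Q) y x = 0}
  add_mem' := fun {a b} ha hb y hy => by rw [polar_add_right, ha y hy, hb y hy, add_zero]
  zero_mem' := fun y _ => by simp
  smul_mem' := fun c x hx y hy => by rw [polar_smul_right, hx y hy, smul_zero]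

variable {Q}

theorem mem_Pp {W : Submodule F (ι → F)} {x : ι → F} : x ∈ Pp Q W ↔ ∀ y ∈ W, polar (⇑Q) y x = 0 := Iff.rfl

theorem Pp_eq (W : Submodule F (ι → F)) :
    Pp Q W = LinearMap.BilinForm.orthogonal (polarBilin Q) W := by
  ext x
  rw [mem_Pp, LinearMap.BilinForm.mem_orthogonal_iff]
  rfl

theorem isRefl : (polarBilin Q).IsRefl := by
  intro x y h
  rw [polarBilin_apply_apply] at h ⊢
  rw [polar_comm, h]

theorem finrank_Pp (hQ : (polarBilin Q).Nondegenerate) (W : Submodule F (ι → F)) :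
    finrank F (Pp Q W) + finrank F W = Fintype.card ι := by
  have h := LinearMap.BilinForm.finrank_orthogonal hQ W
  rw [← Pp_eq, finrank_fintype_fun_eq_card] at h
  have h3 := Submodule.finrank_le W
  rw [finrank_fintype_fun_eq_card] at h3
  omega

theorem Pp_Pp (hQ : (polarBilin Q).Nondegenerate) (W : Submodule F (ι → F)) : Pp Q (Pp Q W) = W := by
  rw [Pp_eq, Pp_eq]
  exact LinearMap.BilinForm.orthogonal_orthogonal hQ isRefl W

variable (Q) in
/-- the `-1` of the isometry group -/
def negI : Cfsg.isometryGroup F (⇑Q) :=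
  ⟨-1, (mem_isometryGroup_iff _ _).2 fun x => by
    rw [Units.val_neg, Units.val_one, Matrix.neg_mulVec, Matrix.one_mulVec, QuadraticMap.map_neg]⟩

theorem act_negI (x : ι → F) : act Q (negI Q) x = -x := by
  rw [act_apply]
  show (((-1 : (Matrix ι ι F)ˣ) : Matrix ι ι F)).mulVec x = -x
  rw [Units.val_neg, Units.val_one, Matrix.neg_mulVec, Matrix.one_mulVec]

theorem negI_comm (g : Cfsg.isometryGroup F (⇑Q)) : negI Q * g = g * negI Q := by
  apply act_ext
  intro x
  rw [act_mul, act_mul, act_negI, act_negI, map_neg]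

theorem negI_mul_negI : negI Q * negI Q = 1 := by
  apply act_ext
  intro x
  rw [act_mul, act_negI, act_negI, neg_neg, act_one]

/-- an isometry group element from a linear map with an inverse -/
theorem exists_act {f f' : (ι → F) →ₗ[F] (ι → F)} (h1 : ∀ x, f (f' x) = x) (h2 : ∀ x, f' (f x) = x)
    (hQ : ∀ x, Q (f x) = Q x) : ∃ g : Cfsg.isometryGroup F (⇑Q), ∀ x, act Q g x = f x := by
  have e1 : LinearMap.toMatrix' f * LinearMap.toMatrix' f' = 1 := by
    rw [← LinearMap.toMatrix'_comp, show f ∘ₗ f' = LinearMap.id from LinearMap.ext h1, LinearMap.toMatrix'_id]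
  have e2 : LinearMap.toMatrix' f' * LinearMap.toMatrix' f = 1 := by
    rw [← LinearMap.toMatrix'_comp, show f' ∘ₗ f = LinearMap.id from LinearMap.ext h2, LinearMap.toMatrix'_id]
  refine ⟨⟨⟨LinearMap.toMatrix' f, LinearMap.toMatrix' f', e1, e2⟩, (mem_isometryGroup_iff _ _).2 fun x => ?_⟩, fun x => ?_⟩
  · show Q ((LinearMap.toMatrix' f).mulVec x) = Q x
    rw [← Matrix.toLin'_apply, Matrix.toLin'_toMatrix', hQ]
  · rw [act_apply]
    show (LinearMap.toMatrix' f).mulVec x = f x
    rw [← Matrix.toLin'_apply, Matrix.toLin'_toMatrix']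

variable (Q) in
/-- the `(-1)`-eigenspace -/
def Em (s : Cfsg.isometryGroup F (⇑Q)) : Submodule F (ι → F) where
  carrier := {x | act Q s x = -x}
  add_mem' := fun {a b} (ha : act Q s a = -a) (hb : act Q s b = -b) => by
    show act Q s (a + b) = -(a + b)
    rw [map_add, ha, hb, neg_add]
  zero_mem' := by show act Q s 0 = -0; rw [map_zero, neg_zero]
  smul_mem' := fun c x (hx : act Q s x = -x) => by
    show act Q s (c • x) = -(c • x)
    rw [map_smul, hx, smul_neg]

theorem mem_Em {s : Cfsg.isometryGroup F (⇑Q)} {x : ι → F} : x ∈ Em Q s ↔ act Q s x = -x := Iff.rfl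

/-- eigenvectors of an involution -/
theorem polar_eq_zero (h2 : (2 : F) ≠ 0) (s : Cfsg.isometryGroup F (⇑Q)) {x y : ι → F} (hx : act Q s x = x)
    (hy : act Q s y = -y) : polar (⇑Q) x y = 0 := by
  have h := act_polar Q s x y
  rw [hx, hy, polar_neg_right] at h
  have h3 : (2 : F) * polar (⇑Q) x y = 0 := by linear_combination -h
  exact (mul_eq_zero.1 h3).resolve_left h2

/-- decomposition for an involution -/
theorem exists_decomp (h2 : (2 : F) ≠ 0) {s : Cfsg.isometryGroup F (⇑Q)} (hs : s * s = 1) (x : ι → F) :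
    ∃ a b, act Q s a = a ∧ act Q s b = -b ∧ a + b = x := by
  have hss : act Q s (act Q s x) = x := by rw [← act_mul, hs, act_one]
  refine ⟨(2 : F)⁻¹ • (x + act Q s x), (2 : F)⁻¹ • (x - act Q s x), ?_, ?_, ?_⟩
  · rw [map_smul, map_add, hss, add_comm]
  · rw [map_smul, map_sub, hss, ← smul_neg, neg_sub]
  · rw [← smul_add, show x + act Q s x + (x - act Q s x) = (2 : F) • x by rw [two_smul]; abel, smul_smul,
      inv_mul_cancel₀ h2, one_smul]

theorem polar_eq_two (x : ι → F) : polar (⇑Q) x x = 2 * Q x := polar_self' Q x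

/-- a subspace of rank at least two represents every nonzero value -/
theorem rep [Finite F] (h2 : (2 : F) ≠ 0) {W : Submodule F (ι → F)}
    (hW : finrank F (W ⊓ Pp Q W : Submodule F (ι → F)) + 2 ≤ finrank F W) (c : F) : ∃ w ∈ W, Q w = c := by
  obtain ⟨x, hx, hx0⟩ : ∃ x ∈ W, Q x ≠ 0 := by
    by_contra hcon
    push Not at hcon
    have : W ≤ W ⊓ Pp Q W := by
      refine le_inf le_rfl fun x hx y hy => ?_
      rw [polar, hcon _ (W.add_mem hy hx), hcon _ hx, hcon _ hy, sub_zero, sub_zero]
    have := Submodule.finrank_mono this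
    omega
  obtain ⟨y, hy, hxy, hy0⟩ : ∃ y ∈ W, polar (⇑Q) x y = 0 ∧ Q y ≠ 0 := by
    by_contra hcon
    push Not at hcon
    -- `W ⊓ x^⊥` is in the radical
    let W₁ : Submodule F (ι → F) := W ⊓ Pp Q (Submodule.span F {x})
    have hW1 : ∀ z, z ∈ W₁ ↔ z ∈ W ∧ polar (⇑Q) x z = 0 := by
      intro z
      constructor
      · intro hz
        exact ⟨hz.1, hz.2 x (Submodule.mem_span_singleton_self x)⟩
      · intro hz
        refine ⟨hz.1, fun y hy => ?_⟩
        obtain ⟨c, rfl⟩ := Submodule.mem_span_singleton.1 hy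
        rw [polar_smul_left, hz.2, smul_zero]
    have hdec : W ≤ W₁ ⊔ Submodule.span F {x} := by
      intro z hz
      have : z = (z - ((2 * Q x)⁻¹ * polar (⇑Q) x z) • x) + ((2 * Q x)⁻¹ * polar (⇑Q) x z) • x := by abel
      rw [this]
      refine Submodule.add_mem_sup ((hW1 _).2 ⟨W.sub_mem hz (W.smul_mem _ hx), ?_⟩)
        (Submodule.smul_mem _ _ (Submodule.mem_span_singleton_self x))
      rw [polar_sub_right, polar_smul_right, polar_eq_two, smul_eq_mul]
      have : (2 * Q x) ≠ 0 := mul_ne_zero h2 hx0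
      field_simp
      ring
    have hrad : W₁ ≤ W ⊓ Pp Q W := by
      intro z hz
      refine ⟨((hW1 z).1 hz).1, fun y hy => ?_⟩
      obtain ⟨w, hw, v, hv, rfl⟩ := Submodule.mem_sup.1 (hdec hy)
      obtain ⟨c, rfl⟩ := Submodule.mem_span_singleton.1 hv
      have e1 := hcon _ (W.add_mem ((hW1 w).1 hw).1 ((hW1 z).1 hz).1)
        (by rw [polar_add_right, ((hW1 w).1 hw).2, ((hW1 z).1 hz).2, add_zero])
      have e2 := hcon w ((hW1 w).1 hw).1 ((hW1 w).1 hw).2
      have e3 := hcon z ((hW1 z).1 hz).1 ((hW1 z).1 hz).2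
      rw [polar_add_left, polar_smul_left, ((hW1 z).1 hz).2, smul_zero, add_zero, polar, e1, e2, e3]
      simp
    have h3 := Submodule.finrank_mono hrad
    have h4 := Submodule.finrank_mono hdec
    have h5 := Submodule.finrank_add_le_finrank_add_finrank W₁ (Submodule.span F {x})
    have h6 : finrank F (Submodule.span F {x}) ≤ 1 := (finrank_span_le_card ({x} : Set (ι → F))).trans (by simp)
    omega
  obtain ⟨a, b, h⟩ := exists_sq_add_sq h2 hx0 hy0 c
  refine ⟨a • x + b • y, W.add_mem (W.smul_mem _ hx) (W.smul_mem _ hy), ?_⟩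
  rw [map_add', QuadraticMap.map_smul, QuadraticMap.map_smul, QuadraticMap.polar_smul_left,
    QuadraticMap.polar_smul_right, hxy, smul_zero, smul_zero, add_zero, ← h]
  simp only [smul_eq_mul]
  ring

/-- the `(-1)`-eigenspace of an involution is nondegenerate -/
theorem Em_nondeg (h2 : (2 : F) ≠ 0) (hQ : (polarBilin Q).Nondegenerate) {s : Cfsg.isometryGroup F (⇑Q)}
    (hs : s * s = 1) : Em Q s ⊓ Pp Q (Em Q s) = ⊥ := by
  rw [eq_bot_iff]
  rintro x ⟨hx, hx2⟩
  rw [Submodule.mem_bot]
  apply hQ.1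
  intro y
  obtain ⟨a, b, ha, hb, rfl⟩ := exists_decomp h2 hs y
  rw [polarBilin_apply_apply, polar_add_right, polar_comm (⇑Q) x a, polar_eq_zero h2 s ha hx, zero_add,
    polar_comm]
  exact hx2 b hb

/-- reflections and conjugation -/
theorem conj_refl {v w : ι → F} (hv : Q v ≠ 0) (hw : Q w ≠ 0) (g : Cfsg.isometryGroup F (⇑Q))
    (h : act Q g v = w ∨ act Q g v = -w) : g * reflIso Q v hv * g⁻¹ = reflIso Q w hw := by
  rw [mul_inv_eq_iff_eq_mul]
  apply act_ext
  intro x
  rw [act_mul, act_mul, act_reflIso, act_reflIso, map_sub, map_smul]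
  have hQv : Q w = Q v := by
    rw [← act_isometry Q g v]
    rcases h with h | h <;> rw [h]
    rw [QuadraticMap.map_neg]
  have hp : polar (⇑Q) v x = polar (⇑Q) (act Q g v) (act Q g x) := (act_polar Q g v x).symm
  rw [hp, hQv]
  rcases h with h | h <;> rw [h]
  rw [polar_neg_left]
  simp

/-- an involution peeled by a reflection in its `(-1)`-eigenspace -/
theorem peel (h2 : (2 : F) ≠ 0) {s : Cfsg.isometryGroup F (⇑Q)} (hs : s * s = 1) {x : ι → F} (hx : Q x ≠ 0)
    (hsx : act Q s x = -x) :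
    (s * reflIso Q x hx) * (s * reflIso Q x hx) = 1 ∧ s * reflIso Q x hx = reflIso Q x hx * s ∧
      (∀ z, act Q s z = z → act Q (s * reflIso Q x hx) z = z) ∧ act Q (s * reflIso Q x hx) x = x ∧
      finrank F (Em Q s) = finrank F (Em Q (s * reflIso Q x hx)) + 1 := by
  have hc : s * reflIso Q x hx = reflIso Q x hx * s := by
    have := conj_refl hx hx s (Or.inr hsx)
    rw [mul_inv_eq_iff_eq_mul] at this
    exact this
  have hrx : act Q (reflIso Q x hx) x = -x := by
    rw [act_reflIso, polar_eq_two]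
    have : (Q x)⁻¹ * (2 * Q x) = 2 := by field_simp
    rw [this, two_smul]; abel
  have hperp : ∀ z, polar (⇑Q) x z = 0 → act Q (reflIso Q x hx) z = z := by
    intro z hz
    rw [act_reflIso, hz]; simp
  have hxx : act Q (s * reflIso Q x hx) x = x := by rw [act_mul, hrx, map_neg, hsx, neg_neg]
  refine ⟨?_, hc, ?_, hxx, ?_⟩
  · calc s * reflIso Q x hx * (s * reflIso Q x hx) = s * reflIso Q x hx * (reflIso Q x hx * s) := by rw [hc]
      _ = s * (reflIso Q x hx * reflIso Q x hx) * s := by group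
      _ = 1 := by rw [reflIso_mul_self, mul_one, hs]
  · intro z hz
    rw [act_mul, hperp z (by rw [polar_comm]; exact polar_eq_zero h2 s hz hsx), hz]
  · have hE : ∀ z, z ∈ Em Q (s * reflIso Q x hx) ↔ z ∈ Em Q s ∧ polar (⇑Q) x z = 0 := by
      intro z
      constructor
      · intro hz
        rw [mem_Em] at hz
        have h0 : polar (⇑Q) x z = 0 := polar_eq_zero h2 _ hxx hz
        refine ⟨?_, h0⟩
        rw [mem_Em]
        rwa [act_mul, hperp z h0] at hz
      · rintro ⟨hz, h0⟩
        rw [mem_Em, act_mul, hperp z h0]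
        exact hz
    have hsup : Em Q s = Em Q (s * reflIso Q x hx) ⊔ Submodule.span F {x} := by
      apply le_antisymm
      · intro z hz
        have : z = (z - ((2 * Q x)⁻¹ * polar (⇑Q) x z) • x) + ((2 * Q x)⁻¹ * polar (⇑Q) x z) • x := by abel
        rw [this]
        refine Submodule.add_mem_sup ((hE _).2 ⟨Submodule.sub_mem _ hz (Submodule.smul_mem _ _ hsx), ?_⟩)
          (Submodule.smul_mem _ _ (Submodule.mem_span_singleton_self x))
        rw [polar_sub_right, polar_smul_right, polar_eq_two, smul_eq_mul]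
        have : (2 * Q x) ≠ 0 := mul_ne_zero h2 hx
        field_simp
        ring
      · apply sup_le
        · intro z hz
          exact ((hE z).1 hz).1
        · rw [Submodule.span_le]
          rintro _ rfl
          exact hsx
    have hinf : Em Q (s * reflIso Q x hx) ⊓ Submodule.span F {x} = ⊥ := by
      rw [eq_bot_iff]
      rintro z ⟨hz, hz2⟩
      obtain ⟨c, rfl⟩ := Submodule.mem_span_singleton.1 hz2
      have := ((hE _).1 hz).2
      rw [polar_smul_right, polar_eq_two, smul_eq_mul] at this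
      rw [Submodule.mem_bot, (mul_eq_zero.1 this).resolve_right (mul_ne_zero h2 hx), zero_smul]
    have hx0 : x ≠ 0 := by rintro rfl; exact hx (QuadraticMap.map_zero Q)
    have := Submodule.finrank_sup_add_finrank_inf_eq (Em Q (s * reflIso Q x hx)) (Submodule.span F {x})
    rw [← hsup, hinf, finrank_bot, add_zero, finrank_span_singleton hx0] at this
    exact this

/-- an involution with zero `(-1)`-eigenspace -/
theorem eq_one_of_Em (h2 : (2 : F) ≠ 0) {s : Cfsg.isometryGroup F (⇑Q)} (hs : s * s = 1)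
    (h : finrank F (Em Q s) = 0) : s = 1 := by
  apply act_ext
  intro x
  obtain ⟨a, b, ha, hb, rfl⟩ := exists_decomp h2 hs x
  have hb' : b ∈ Em Q s := hb
  rw [Submodule.finrank_eq_zero.1 h, Submodule.mem_bot] at hb'
  rw [map_add, ha, hb, act_one, hb', neg_zero]

/-- a nonzero nondegenerate space has a nonsingular vector -/
theorem exists_ns (h2 : (2 : F) ≠ 0) (hQ : (polarBilin Q).Nondegenerate) {s : Cfsg.isometryGroup F (⇑Q)}
    (hs : s * s = 1) (h : finrank F (Em Q s) ≠ 0) : ∃ x ∈ Em Q s, Q x ≠ 0 := by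
  by_contra hcon
  push Not at hcon
  apply h
  have : Em Q s ≤ Em Q s ⊓ Pp Q (Em Q s) := by
    refine le_inf le_rfl fun x hx y hy => ?_
    rw [polar, hcon _ ((Em Q s).add_mem hy hx), hcon _ hx, hcon _ hy, sub_zero, sub_zero]
  rw [Em_nondeg h2 hQ hs, le_bot_iff] at this
  rw [this, finrank_bot]

end Basic

end Cfsg.Agent.H146.Ore
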