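import Mathlib

/-!
# Skew operators on quadratic spaces (odd characteristic)

For a skew operator `X` (`B (X x) y = - B x (X y)`) on a space with a nondegenerate symmetric form there is
an orthogonal decomposition `V = P ⊕ M` with `X P ≤ M`, `X M ≤ P` and `|dim P - dim M| ≤ 1`.
-/

set_option autoImplicit false
set_option linter.unusedSectionVars false

universe u v

namespace Cfsg.Agent.H146.Ore

open Polynomial Module

section Defs

variable {F : Type u} [Field F] {V : Type v} [AddCommGroup V] [Module F V]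

/-- skew operator -/
def Skew (B : LinearMap.BilinForm F V) (X : Module.End F V) : Prop := ∀ x y, B (X x) y = - B x (X y)

def Sym (B : LinearMap.BilinForm F V) : Prop := ∀ x y, B x y = B y x

def Nond (B : LinearMap.BilinForm F V) : Prop := ∀ x, (∀ y, B x y = 0) → x = 0

structure Split (B : LinearMap.BilinForm F V) (X : Module.End F V) (P M : Submodule F V) : Prop where
  sup : P ⊔ M = ⊤
  orth : ∀ x ∈ P, ∀ y ∈ M, B x y = 0
  pm : ∀ x ∈ P, X x ∈ M
  mp : ∀ x ∈ M, X x ∈ P
  le : finrank F P ≤ finrank F M + 1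
  ge : finrank F M ≤ finrank F P + 1

theorem Split.swap {B : LinearMap.BilinForm F V} {X : Module.End F V} {P M : Submodule F V} (hs : Sym B)
    (h : Split B X P M) : Split B X M P :=
  ⟨by rw [sup_comm]; exact h.sup, fun x hx y hy => by rw [hs]; exact h.orth y hy x hx, h.mp, h.pm, h.ge, h.le⟩

/-- orthogonality to a sum -/
theorem orth_sup {B : LinearMap.BilinForm F V} {P M : Submodule F V} {x : V} (h1 : ∀ y ∈ P, B x y = 0)
    (h2 : ∀ y ∈ M, B x y = 0) (h : P ⊔ M = ⊤) (y : V) : B x y = 0 := by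
  have hy : y ∈ P ⊔ M := by rw [h]; trivial
  obtain ⟨a, ha, b, hb, rfl⟩ := Submodule.mem_sup.1 hy
  rw [map_add, h1 a ha, h2 b hb, add_zero]

theorem inf_eq_bot {B : LinearMap.BilinForm F V} (hs : Sym B) (hN : Nond B) {P M : Submodule F V}
    (ho : ∀ x ∈ P, ∀ y ∈ M, B x y = 0) (h : P ⊔ M = ⊤) : P ⊓ M = ⊥ := by
  rw [eq_bot_iff]
  rintro x ⟨hx1, hx2⟩
  rw [Submodule.mem_bot]
  apply hN
  exact orth_sup (fun y hy => by rw [hs]; exact ho y hy x hx2) (fun y hy => ho x hx1 y hy) h

theorem isCompl_of {B : LinearMap.BilinForm F V} (hs : Sym B) (hN : Nond B) {P M : Submodule F V}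
    (ho : ∀ x ∈ P, ∀ y ∈ M, B x y = 0) (h : P ⊔ M = ⊤) : IsCompl P M :=
  ⟨disjoint_iff.2 (inf_eq_bot hs hN ho h), codisjoint_iff.2 h⟩

/-- the cyclic subspace -/
noncomputable def Cy (X : Module.End F V) (v : V) : Submodule F V :=
  LinearMap.range ((LinearMap.applyₗ v : Module.End F V →ₗ[F] V) ∘ₗ (aeval (R := F) X).toLinearMap)

theorem mem_Cy {X : Module.End F V} {v w : V} : w ∈ Cy X v ↔ ∃ f : F[X], aeval X f v = w := Iff.rfl

theorem self_mem_Cy (X : Module.End F V) (v : V) : v ∈ Cy X v := mem_Cy.2 ⟨1, by simp⟩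

theorem aeval_mul_app (X : Module.End F V) (f h : F[X]) (v : V) :
    aeval X (f * h) v = aeval X f (aeval X h v) := by
  rw [map_mul]; rfl

theorem aeval_X_mul_app (X : Module.End F V) (f : F[X]) (v : V) :
    aeval X (Polynomial.X * f) v = X (aeval X f v) := by
  rw [aeval_mul_app, aeval_X]

theorem aeval_comm_app (X : Module.End F V) (f : F[X]) (v : V) :
    aeval X f (X v) = X (aeval X f v) := by
  rw [← aeval_X_mul_app, mul_comm, aeval_mul_app, aeval_X]

theorem Cy_inv {X : Module.End F V} {v w : V} (h : w ∈ Cy X v) : X w ∈ Cy X v := by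
  obtain ⟨f, rfl⟩ := mem_Cy.1 h
  exact mem_Cy.2 ⟨Polynomial.X * f, aeval_X_mul_app X f v⟩

theorem Cy_aeval {X : Module.End F V} {v w : V} (h : w ∈ Cy X v) (f : F[X]) : aeval X f w ∈ Cy X v := by
  obtain ⟨g, rfl⟩ := mem_Cy.1 h
  exact mem_Cy.2 ⟨f * g, aeval_mul_app X f g v⟩

theorem aeval_neg (X : Module.End F V) (f : F[X]) : aeval (-X) f = aeval X (f.comp (-Polynomial.X)) := by
  rw [Polynomial.aeval_comp]
  simp

theorem neg_mem_Cy {X : Module.End F V} {v : V} (f : F[X]) : aeval (-X) f v ∈ Cy X v := by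
  rw [aeval_neg]
  exact mem_Cy.2 ⟨_, rfl⟩

theorem mem_Cy_neg {X : Module.End F V} {v w : V} (h : w ∈ Cy X v) : ∃ f : F[X], aeval (-X) f v = w := by
  obtain ⟨f, rfl⟩ := mem_Cy.1 h
  refine ⟨f.comp (-Polynomial.X), ?_⟩
  rw [aeval_neg, Polynomial.comp_assoc]
  simp

theorem comm_neg (X : Module.End F V) (f h : F[X]) (v : V) :
    aeval X f (aeval (-X) h v) = aeval (-X) h (aeval X f v) := by
  rw [aeval_neg, ← aeval_mul_app, mul_comm, aeval_mul_app]

theorem Skew.neg {B : LinearMap.BilinForm F V} {X : Module.End F V} (h : Skew B X) : Skew B (-X) := by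
  intro x y
  simp only [LinearMap.neg_apply, map_neg]
  rw [h x y]

/-- the adjoint of a polynomial in a skew operator -/
theorem Skew.adj {B : LinearMap.BilinForm F V} {X : Module.End F V} (h : Skew B X) (f : F[X]) (x y : V) :
    B (aeval X f x) y = B x (aeval (-X) f y) := by
  induction f using Polynomial.induction_on' generalizing x y with
  | add p q hp hq => simp only [map_add, LinearMap.add_apply, hp, hq]
  | monomial n a =>
    rw [← C_mul_X_pow_eq_monomial]
    simp only [map_mul, aeval_C, map_pow, aeval_X]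
    have key : ∀ (n : ℕ) (x y : V), B ((X ^ n) x) y = B x (((-X) ^ n) y) := by
      intro n
      induction n with
      | zero => intro x y; simp
      | succ n ih =>
        intro x y
        rw [pow_succ, pow_succ', Module.End.mul_apply, Module.End.mul_apply, ih, h]
        simp only [LinearMap.neg_apply, map_neg]
    simp only [Module.End.mul_apply, Module.algebraMap_end_apply, map_smul, LinearMap.smul_apply]
    rw [key]

end Defs

section Cyclic

variable {F : Type u} [Field F] {V : Type v} [AddCommGroup V] [Module F V] [FiniteDimensional F V]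
variable {B : LinearMap.BilinForm F V} {X : Module.End F V}

theorem aeval_sq (X : Module.End F V) (f : F[X]) : aeval (X ^ 2) f = aeval X (f.comp (Polynomial.X ^ 2)) := by
  rw [Polynomial.aeval_comp]
  simp

theorem aeval_neg_comp_sq (X : Module.End F V) (f : F[X]) :
    aeval (-X) (f.comp (Polynomial.X ^ 2)) = aeval (X ^ 2) f := by
  rw [Polynomial.aeval_comp]
  simp

theorem odd_zero (h2 : (2 : F) ≠ 0) (hs : Sym B) (hX : Skew B X) {r : F[X]}
    (hr : aeval (-X) r = - aeval X r) (v : V) : B v (aeval X r v) = 0 := by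
  have h := hX.adj r v v
  rw [hr, hs, LinearMap.neg_apply, map_neg] at h
  have h3 : (2 : F) * B v (aeval X r v) = 0 := by linear_combination h
  exact (mul_eq_zero.1 h3).resolve_left h2

/-- a cyclic operator -/
theorem split_of_cyclic (h2 : (2 : F) ≠ 0) (hs : Sym B) (hX : Skew B X) {v : V} (hv : Cy X v = ⊤) :
    ∃ P M : Submodule F V, Split B X P M := by
  refine ⟨Cy (X ^ 2) v, (Cy (X ^ 2) v).map X, ?_, ?_, ?_, ?_, ?_, ?_⟩
  · rw [eq_top_iff, ← hv]
    intro w hw
    obtain ⟨f, rfl⟩ := mem_Cy.1 hw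
    clear hw
    induction f using Polynomial.induction_on' with
    | add p q hp hq =>
      rw [map_add, LinearMap.add_apply]
      exact Submodule.add_mem _ hp hq
    | monomial n a =>
      rcases Nat.even_or_odd n with ⟨k, hk⟩ | ⟨k, hk⟩
      · apply Submodule.mem_sup_left
        refine mem_Cy.2 ⟨monomial k a, ?_⟩
        rw [← C_mul_X_pow_eq_monomial, ← C_mul_X_pow_eq_monomial, hk]
        simp only [map_mul, aeval_C, map_pow, aeval_X]
        rw [← pow_mul, ← two_mul]
      · apply Submodule.mem_sup_right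
        refine ⟨aeval (X ^ 2) (monomial k a) v, mem_Cy.2 ⟨_, rfl⟩, ?_⟩
        rw [← C_mul_X_pow_eq_monomial, ← C_mul_X_pow_eq_monomial, hk]
        simp only [map_mul, aeval_C, map_pow, aeval_X, Module.End.mul_apply, Module.algebraMap_end_apply,
          map_smul]
        rw [pow_succ' X (2 * k), Module.End.mul_apply, ← pow_mul]
  · rintro x hx y ⟨z, hz, rfl⟩
    obtain ⟨f, rfl⟩ := mem_Cy.1 hx
    obtain ⟨h, rfl⟩ := mem_Cy.1 hz
    have h1 : B (aeval (X ^ 2) f v) (X (aeval (X ^ 2) h v)) =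
        B v (aeval X (f.comp (Polynomial.X ^ 2) * (Polynomial.X * h.comp (Polynomial.X ^ 2))) v) := by
      rw [aeval_sq X f, hX.adj, aeval_neg_comp_sq, aeval_sq, aeval_sq, ← aeval_X_mul_app, ← aeval_mul_app]
    rw [h1]
    apply odd_zero h2 hs hX
    rw [map_mul, map_mul, map_mul, map_mul, aeval_X, aeval_X, aeval_neg_comp_sq, aeval_neg_comp_sq,
      aeval_sq, aeval_sq]
    simp
  · intro x hx
    exact ⟨x, hx, rfl⟩
  · rintro x ⟨z, hz, rfl⟩
    have := Cy_inv hz
    rwa [pow_two, Module.End.mul_apply] at this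
  · have h1 : Cy (X ^ 2) v ≤ Submodule.span F {v} ⊔ ((Cy (X ^ 2) v).map X).map X := by
      intro w hw
      obtain ⟨f, rfl⟩ := mem_Cy.1 hw
      rw [← Polynomial.divX_mul_X_add f, map_add, LinearMap.add_apply, add_comm]
      apply Submodule.add_mem_sup
      · simp only [aeval_C, Module.algebraMap_end_apply]
        exact Submodule.smul_mem _ _ (Submodule.mem_span_singleton_self v)
      · refine ⟨X (aeval (X ^ 2) f.divX v), ⟨_, mem_Cy.2 ⟨_, rfl⟩, rfl⟩, ?_⟩
        rw [mul_comm, aeval_X_mul_app, pow_two, Module.End.mul_apply]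
    calc finrank F (Cy (X ^ 2) v) ≤ finrank F (Submodule.span F {v} ⊔ ((Cy (X ^ 2) v).map X).map X : Submodule F V) :=
          Submodule.finrank_mono h1
      _ ≤ finrank F (Submodule.span F {v}) + finrank F (((Cy (X ^ 2) v).map X).map X) :=
          Submodule.finrank_add_le_finrank_add_finrank _ _
      _ ≤ 1 + finrank F ((Cy (X ^ 2) v).map X) := by
          apply Nat.add_le_add
          · exact (finrank_span_le_card ({v} : Set V)).trans (by simp)
          · exact Submodule.finrank_map_le X _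
      _ = _ := add_comm _ _
  · exact (Submodule.finrank_map_le X _).trans (Nat.le_succ _)

/-- two dual totally isotropic cyclic subspaces -/
theorem split_of_pair (h2 : (2 : F) ≠ 0) (hs : Sym B) (hN : Nond B) (hX : Skew B X) {u w : V}
    (hu : ∀ x ∈ Cy X u, ∀ y ∈ Cy X u, B x y = 0) (hw : ∀ x ∈ Cy X w, ∀ y ∈ Cy X w, B x y = 0)
    (huw : Cy X u ⊔ Cy X w = ⊤) : ∃ P M : Submodule F V, Split B X P M := by
  have hinf : Cy X u ⊓ Cy X w = ⊥ := by
    rw [eq_bot_iff]
    rintro x ⟨hx1, hx2⟩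
    rw [Submodule.mem_bot]
    exact hN x (orth_sup (fun y hy => hu x hx1 y hy) (fun y hy => hw x hx2 y hy) huw)
  have hc : IsCompl (Cy X u) (Cy X w) := ⟨disjoint_iff.2 hinf, codisjoint_iff.2 huw⟩
  -- the maps `f ↦ f(X) u ± f(-X) w`
  let fp : F[X] →ₗ[F] V := ((LinearMap.applyₗ u : Module.End F V →ₗ[F] V) ∘ₗ (aeval (R := F) X).toLinearMap) +
    ((LinearMap.applyₗ w : Module.End F V →ₗ[F] V) ∘ₗ (aeval (R := F) (-X)).toLinearMap)
  let fm : F[X] →ₗ[F] V := ((LinearMap.applyₗ u : Module.End F V →ₗ[F] V) ∘ₗ (aeval (R := F) X).toLinearMap) -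
    ((LinearMap.applyₗ w : Module.End F V →ₗ[F] V) ∘ₗ (aeval (R := F) (-X)).toLinearMap)
  have hfp : ∀ f, fp f = aeval X f u + aeval (-X) f w := fun f => rfl
  have hfm : ∀ f, fm f = aeval X f u - aeval (-X) f w := fun f => rfl
  let J : V →ₗ[F] V := (Submodule.subtype _ ∘ₗ Submodule.projectionOnto _ _ hc) -
    (Submodule.subtype _ ∘ₗ Submodule.projectionOnto _ _ hc.symm)
  have hJ : ∀ x ∈ Cy X u, ∀ y ∈ Cy X w, J (x + y) = x - y := by
    intro x hx y hy
    have e1 : (Submodule.projectionOnto _ _ hc (x + y) : V) = x := by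
      rw [map_add, Submodule.projectionOnto_apply_left hc ⟨x, hx⟩,
        (Submodule.projectionOnto_apply_eq_zero_iff hc).2 hy, add_zero]
    have e2 : (Submodule.projectionOnto _ _ hc.symm (x + y) : V) = y := by
      rw [map_add, Submodule.projectionOnto_apply_left hc.symm ⟨y, hy⟩,
        (Submodule.projectionOnto_apply_eq_zero_iff hc.symm).2 hx, zero_add]
    show (Submodule.projectionOnto _ _ hc (x + y) : V) -
      (Submodule.projectionOnto _ _ hc.symm (x + y) : V) = x - y
    rw [e1, e2]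
  have hJp : ∀ f, J (fp f) = fm f := fun f => hJ _ (mem_Cy.2 ⟨f, rfl⟩) _ (neg_mem_Cy f)
  have hJm : ∀ f, J (fm f) = fp f := by
    intro f
    rw [hfm, sub_eq_add_neg, hJ _ (mem_Cy.2 ⟨f, rfl⟩) _ ((Submodule.neg_mem_iff _).2 (neg_mem_Cy f)), sub_neg_eq_add, hfp]
  have hXp : ∀ f, X (fp f) = fm (Polynomial.X * f) := by
    intro f
    rw [hfp, hfm, map_mul, map_mul, aeval_X, aeval_X, Module.End.mul_apply, Module.End.mul_apply, map_add,
      LinearMap.neg_apply, sub_neg_eq_add]
  have hXm : ∀ f, X (fm f) = fp (Polynomial.X * f) := by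
    intro f
    rw [hfp, hfm, map_mul, map_mul, aeval_X, aeval_X, Module.End.mul_apply, Module.End.mul_apply, map_sub,
      LinearMap.neg_apply, sub_eq_add_neg]
  refine ⟨LinearMap.range fp, LinearMap.range fm, ?_, ?_, ?_, ?_, ?_, ?_⟩
  · rw [eq_top_iff, ← huw]
    have h3 : (2 : F)⁻¹ * 2 = 1 := inv_mul_cancel₀ h2
    apply sup_le
    · intro x hx
      obtain ⟨f, rfl⟩ := mem_Cy.1 hx
      have : aeval X f u = (2 : F)⁻¹ • fp f + (2 : F)⁻¹ • fm f := by
        rw [hfp, hfm, ← smul_add]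
        rw [show aeval X f u + aeval (-X) f w + (aeval X f u - aeval (-X) f w) = (2 : F) • aeval X f u by
          rw [two_smul]; abel, smul_smul, h3, one_smul]
      rw [this]
      exact Submodule.add_mem_sup (Submodule.smul_mem _ _ ⟨f, rfl⟩) (Submodule.smul_mem _ _ ⟨f, rfl⟩)
    · intro x hx
      obtain ⟨f, rfl⟩ := mem_Cy_neg hx
      have : aeval (-X) f w = (2 : F)⁻¹ • fp f + (-(2 : F)⁻¹) • fm f := by
        rw [hfp, hfm, neg_smul, ← sub_eq_add_neg, ← smul_sub]
        rw [show aeval X f u + aeval (-X) f w - (aeval X f u - aeval (-X) f w) = (2 : F) • aeval (-X) f w by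
          rw [two_smul]; abel, smul_smul, h3, one_smul]
      rw [this]
      exact Submodule.add_mem_sup (Submodule.smul_mem _ _ ⟨f, rfl⟩) (Submodule.smul_mem _ _ ⟨f, rfl⟩)
  · rintro x ⟨f, rfl⟩ y ⟨h, rfl⟩
    rw [hfp, hfm]
    have e1 : B (aeval X f u) (aeval X h u) = 0 := hu _ (mem_Cy.2 ⟨f, rfl⟩) _ (mem_Cy.2 ⟨h, rfl⟩)
    have e2 : B (aeval (-X) f w) (aeval (-X) h w) = 0 := hw _ (neg_mem_Cy f) _ (neg_mem_Cy h)
    have e3 : B (aeval X f u) (aeval (-X) h w) = B u (aeval (-X) (f * h) w) := by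
      rw [hX.adj, aeval_mul_app]
    have e4 : B (aeval (-X) f w) (aeval X h u) = B u (aeval (-X) (f * h) w) := by
      rw [hs, hX.adj, mul_comm, aeval_mul_app]
    simp only [map_add, map_sub, LinearMap.add_apply, e1, e2, e3, e4]
    ring
  · rintro x ⟨f, rfl⟩
    exact ⟨_, (hXp f).symm⟩
  · rintro x ⟨f, rfl⟩
    exact ⟨_, (hXm f).symm⟩
  · have : LinearMap.range fp ≤ (LinearMap.range fm).map J := by
      rintro x ⟨f, rfl⟩
      exact ⟨fm f, ⟨f, rfl⟩, hJm f⟩
    exact ((Submodule.finrank_mono this).trans (Submodule.finrank_map_le J _)).trans (Nat.le_succ _)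
  · have : LinearMap.range fm ≤ (LinearMap.range fp).map J := by
      rintro x ⟨f, rfl⟩
      exact ⟨fp f, ⟨f, rfl⟩, hJp f⟩
    exact ((Submodule.finrank_mono this).trans (Submodule.finrank_map_le J _)).trans (Nat.le_succ _)

end Cyclic

end Cfsg.Agent.H146.Ore
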