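import Cfsg.Agent.H146.SkewMain

/-!
# Skew operators on quadratic spaces: the existence of a split, conclusion
-/

set_option autoImplicit false
set_option linter.unusedSectionVars false

universe u v

namespace Cfsg.Agent.H146.Ore

open Polynomial Module

section Pairs

variable {F : Type u} [Field F] {V : Type v} [AddCommGroup V] [Module F V] [FiniteDimensional F V]
variable {B : LinearMap.BilinForm F V} {X : Module.End F V}

theorem Skew.pow (hX : Skew B X) (i : ℕ) (x y : V) : B ((X ^ i) x) y = (-1) ^ i * B x ((X ^ i) y) := by
  induction i generalizing x y with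
  | zero => simp
  | succ i ih =>
    rw [pow_succ, Module.End.mul_apply, ih, hX, ← Module.End.mul_apply, ← pow_succ', pow_succ (-1 : F)]
    rw [pow_succ]
    ring

theorem Skew.odd_self (h2 : (2 : F) ≠ 0) (hs : Sym B) (hX : Skew B X) {i : ℕ} (hi : Odd i) (x : V) :
    B ((X ^ i) x) x = 0 := by
  have h := hX.pow i x x
  rw [hi.neg_one_pow, hs x] at h
  have h3 : (2 : F) * B ((X ^ i) x) x = 0 := by linear_combination h
  exact (mul_eq_zero.1 h3).resolve_left h2

/-- normalization of one vector of a pair -/
theorem norm_vec (h2 : (2 : F) ≠ 0) (hs : Sym B) (hX : Skew B X) {e : ℕ} (he : Odd e) (hz : X ^ (e + 1) = 0)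
    {x w : V} (hx : B ((X ^ e) x) w ≠ 0) :
    ∃ x', B ((X ^ e) x') w ≠ 0 ∧ ∀ i, B ((X ^ i) x') x' = 0 := by
  have hz' : ∀ m, e + 1 ≤ m → X ^ m = 0 := by
    intro m hm
    obtain ⟨c, rfl⟩ := Nat.exists_eq_add_of_le hm
    rw [pow_add, hz, zero_mul]
  have key : ∀ d, d ≤ e + 1 → ∃ x', B ((X ^ e) x') w ≠ 0 ∧ ∀ i, e + 1 ≤ i + d → B ((X ^ i) x') x' = 0 := by
    intro d
    induction d with
    | zero =>
      intro _
      refine ⟨x, hx, fun i hi => ?_⟩
      rw [hz' i (by omega)]
      simp
    | succ d ih =>
      intro hd
      obtain ⟨x, hx, hx2⟩ := ih (by omega)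
      rcases Nat.even_or_odd (e - d) with hev | hod
      · have hdo : Odd d := by
          by_contra hcon
          rw [Nat.not_odd_iff_even] at hcon
          have : Even (e - d + d) := hev.add hcon
          rw [Nat.sub_add_cancel (by omega)] at this
          exact (Nat.not_even_iff_odd.2 he) this
        have hd1 : 1 ≤ d := hdo.pos
        set β := B ((X ^ e) x) w with hβ
        set α := B ((X ^ (e - d)) x) x * (2 * β)⁻¹ with hα
        have hexp : ∀ i, B ((X ^ i) (x + α • (X ^ d) w)) (x + α • (X ^ d) w) =
            B ((X ^ i) x) x - α * B ((X ^ (i + d)) x) w + α * B ((X ^ (i + d)) w) x -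
              α * α * B ((X ^ (i + d + d)) w) w := by
          intro i
          have e1 : B ((X ^ i) x) ((X ^ d) w) = - B ((X ^ (i + d)) x) w := by
            have := hX.pow d ((X ^ i) x) w
            rw [← Module.End.mul_apply, ← pow_add, hdo.neg_one_pow, add_comm d i] at this
            rw [this]; ring
          have e2 : B ((X ^ (i + d)) w) ((X ^ d) w) = - B ((X ^ (i + d + d)) w) w := by
            have := hX.pow d ((X ^ (i + d)) w) w
            rw [← Module.End.mul_apply, ← pow_add, hdo.neg_one_pow, add_comm d (i + d)] at this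
            rw [this]; ring
          simp only [map_add, map_smul, LinearMap.add_apply, LinearMap.smul_apply, smul_eq_mul]
          rw [← Module.End.mul_apply, ← pow_add, e1, e2]
          ring
        refine ⟨x + α • (X ^ d) w, ?_, fun i hi => ?_⟩
        · have : (X ^ e) (x + α • (X ^ d) w) = (X ^ e) x := by
            rw [map_add, map_smul, ← Module.End.mul_apply, ← pow_add, hz' (e + d) (by omega)]
            simp
          rw [this]
          exact hx
        · rw [hexp i]
          rcases Nat.lt_or_ge (i + d) (e + 1) with h1 | h1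
          · have hi2 : i + d = e := by omega
            have hi3 : i = e - d := by omega
            rw [hi2, hz' (e + d) (by omega)]
            have e3 : B ((X ^ e) w) x = - β := by
              rw [hX.pow, he.neg_one_pow, hs w]
              ring
            rw [e3, ← hβ, hi3, hα]
            have h3 : (2 * β) ≠ 0 := mul_ne_zero h2 hx
            simp only [LinearMap.zero_apply, map_zero]
            field_simp
            ring
          · rw [hz' (i + d) h1, hz' (i + d + d) (by omega), hx2 i h1]
            simp
      · refine ⟨x, hx, fun i hi => ?_⟩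
        rcases Nat.lt_or_ge (i + d) (e + 1) with h1 | h1
        · have hi3 : i = e - d := by omega
          rw [hi3]
          exact hX.odd_self h2 hs hod x
        · exact hx2 i h1
  obtain ⟨x', h1, h3⟩ := key (e + 1) le_rfl
  exact ⟨x', h1, fun i => h3 i (by omega)⟩

/-- a cyclic subspace is totally isotropic when `B (X^i u) u = 0` -/
theorem Cy_isotropic (hs : Sym B) (hX : Skew B X) {u : V} (hu : ∀ i, B ((X ^ i) u) u = 0) :
    ∀ x ∈ Cy X u, ∀ y ∈ Cy X u, B x y = 0 := by
  have key : ∀ f : F[X], B u (aeval X f u) = 0 := by
    intro f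
    induction f using Polynomial.induction_on' with
    | add p q hp hq => rw [map_add, LinearMap.add_apply, map_add, hp, hq, add_zero]
    | monomial n a =>
      rw [← C_mul_X_pow_eq_monomial, aeval_mul_app, aeval_X_pow, aeval_C, Module.algebraMap_end_apply,
        map_smul, hs, hu, smul_zero]
  intro x hx y hy
  obtain ⟨f, rfl⟩ := mem_Cy.1 hx
  obtain ⟨h, rfl⟩ := mem_Cy.1 hy
  rw [hX.adj, aeval_neg, ← aeval_mul_app]
  exact key _

/-- the nilpotent case, even index -/
theorem split_of_nilpotent_even (h2 : (2 : F) ≠ 0) (hs : Sym B) (hN : Nond B) (hX : Skew B X)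
    (hI : Indec B X) {e : ℕ} (he : Odd e) (hz : X ^ (e + 1) = 0) (hz1 : X ^ e ≠ 0) :
    ∃ P M : Submodule F V, Split B X P M := by
  obtain ⟨u, w, huw⟩ : ∃ u w, B ((X ^ e) u) w ≠ 0 := by
    by_contra hcon
    push Not at hcon
    apply hz1
    ext x
    exact hN _ (hcon x)
  obtain ⟨u, huw, hu⟩ := norm_vec h2 hs hX he hz huw
  have hwu : B ((X ^ e) w) u ≠ 0 := by
    rw [hX.pow, he.neg_one_pow, hs w]
    intro h
    apply huw
    linear_combination -h
  obtain ⟨w, hwu, hw⟩ := norm_vec h2 hs hX he hz hwu
  have huw : B ((X ^ e) u) w ≠ 0 := by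
    rw [hX.pow, he.neg_one_pow, hs u]
    intro h
    apply hwu
    linear_combination -h
  have hU := Cy_isotropic hs hX hu
  have hW := Cy_isotropic hs hX hw
  have htop : Cy X u ⊔ Cy X w = ⊤ := by
    rcases hI (Cy X u ⊔ Cy X w) (fun x hx => by
        obtain ⟨a, ha, b, hb, rfl⟩ := Submodule.mem_sup.1 hx
        rw [map_add]
        exact Submodule.add_mem_sup (Cy_inv ha) (Cy_inv hb)) (fun x hx hx2 => by
        obtain ⟨a, ha, b, hb, rfl⟩ := Submodule.mem_sup.1 hx
        obtain ⟨f, rfl⟩ := mem_Cy.1 ha
        obtain ⟨h, rfl⟩ := mem_Cy.1 hb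
        have key : ∀ i, i ≤ e → f.coeff i = 0 ∧ h.coeff i = 0 := by
          intro i
          induction i using Nat.strong_induction_on with
          | _ i ih =>
            intro hi
            have gen : ∀ (q : F[X]) (v : V), (∀ j, j < i → q.coeff j = 0) →
                aeval X (Polynomial.X ^ (e - i) * q) v = q.coeff i • (X ^ e) v := by
              intro q v hq
              have h3 : (Polynomial.X : F[X]) ^ (e + 1) ∣ Polynomial.X ^ (e - i) * q -
                  C (q.coeff i) * Polynomial.X ^ e := by
                rw [Polynomial.X_pow_dvd_iff]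
                intro d hd
                rw [coeff_sub, coeff_X_pow_mul', coeff_C_mul, coeff_X_pow]
                split_ifs with h4 h5 h5
                · subst h5
                  rw [show d - (d - i) = i by omega]; ring
                · rw [hq (d - (e - i)) (by omega)]; ring
                · omega
                · ring
              obtain ⟨r, hr⟩ := h3
              have h6 : Polynomial.X ^ (e - i) * q = C (q.coeff i) * Polynomial.X ^ e +
                  Polynomial.X ^ (e + 1) * r := by rw [← hr]; ring
              rw [h6, map_add, LinearMap.add_apply, aeval_mul_app, aeval_mul_app, aeval_X_pow, aeval_X_pow, hz,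
                aeval_C]
              simp
            have h1 := gen f u (fun j hj => (ih j hj (by omega)).1)
            have h3 := gen h w (fun j hj => (ih j hj (by omega)).2)
            have h5 : aeval X (Polynomial.X ^ (e - i) : F[X]) (aeval X f u + aeval X h w) =
                f.coeff i • (X ^ e) u + h.coeff i • (X ^ e) w := by
              rw [map_add, ← aeval_mul_app, ← aeval_mul_app, h1, h3]
            have h7 : ∀ y ∈ Cy X u ⊔ Cy X w,
                B (aeval X (Polynomial.X ^ (e - i) : F[X]) (aeval X f u + aeval X h w)) y = 0 := by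
              intro y hy
              rw [hX.adj, aeval_neg]
              apply hx2
              obtain ⟨c, hc, d, hd, rfl⟩ := Submodule.mem_sup.1 hy
              rw [map_add]
              exact Submodule.add_mem_sup (Cy_aeval hc _) (Cy_aeval hd _)
            have h8 := h7 w (Submodule.mem_sup_right (self_mem_Cy X w))
            have h9 := h7 u (Submodule.mem_sup_left (self_mem_Cy X u))
            rw [h5] at h8 h9
            simp only [map_add, map_smul, LinearMap.add_apply, LinearMap.smul_apply, smul_eq_mul, hu, hw,
              mul_zero, add_zero, zero_add] at h8 h9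
            exact ⟨(mul_eq_zero.1 h8).resolve_right huw, (mul_eq_zero.1 h9).resolve_right hwu⟩
        obtain ⟨q, hq⟩ : (Polynomial.X : F[X]) ^ (e + 1) ∣ f := Polynomial.X_pow_dvd_iff.2 (fun d hd => (key d (by omega)).1)
        obtain ⟨r, hr⟩ : (Polynomial.X : F[X]) ^ (e + 1) ∣ h := Polynomial.X_pow_dvd_iff.2 (fun d hd => (key d (by omega)).2)
        rw [hq, hr, aeval_mul_app, aeval_mul_app, aeval_X_pow, hz]
        simp) with h1 | h1
    · exfalso
      have : u ∈ Cy X u ⊔ Cy X w := Submodule.mem_sup_left (self_mem_Cy X u)
      rw [h1, Submodule.mem_bot] at this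
      rw [this] at huw
      exact huw (by simp)
    · exact h1
  exact split_of_pair h2 hs hN hX hU hW htop

end Pairs

/-- **Split**: a skew operator on a space with a nondegenerate symmetric form exchanges the two members of some
orthogonal decomposition into subspaces of almost equal dimension. -/
theorem exists_split {F : Type u} [Field F] (h2 : (2 : F) ≠ 0) (n : ℕ) :
    ∀ (V : Type v) [AddCommGroup V] [Module F V] [FiniteDimensional F V] (B : LinearMap.BilinForm F V)
      (X : Module.End F V), finrank F V = n → Sym B → Nond B → Skew B X →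
      ∃ P M : Submodule F V, Split B X P M := by
  induction n using Nat.strong_induction_on with
  | _ n ih =>
    intro V _ _ _ B X hn hs hN hX
    rcases subsingleton_or_nontrivial V with hV | hV
    · exact ⟨⊥, ⊥, ⟨Subsingleton.elim _ _, fun x hx y hy => by
        rw [Subsingleton.elim x 0, map_zero]; rfl, fun x hx => by rw [Submodule.mem_bot]; exact Subsingleton.elim _ _,
        fun x hx => by rw [Submodule.mem_bot]; exact Subsingleton.elim _ _, Nat.le_succ _, Nat.le_succ _⟩⟩
    by_cases hI : Indec B X
    · rcases fitting hN hI (T := X) (fun x y => Or.inr (hX x y)) (fun x => rfl) with hinj | hnil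
      · obtain ⟨v, hv⟩ := cyclic_of_injective h2 hs hN hX hI hinj
        exact split_of_cyclic h2 hs hX hv
      · classical
        have hm := Nat.find_spec hnil
        have hmin : ∀ j, j < Nat.find hnil → X ^ j ≠ 0 := fun j hj => Nat.find_min hnil hj
        generalize Nat.find hnil = m at hm hmin
        have hm0 : m ≠ 0 := by
          rintro rfl
          rw [pow_zero] at hm
          obtain ⟨x, hx⟩ := exists_ne (0 : V)
          apply hx
          have : (1 : Module.End F V) x = x := rfl
          rw [← this, hm]; rfl
        rcases Nat.even_or_odd m with ⟨k, hk⟩ | ⟨k, hk⟩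
        · have hk0 : k ≠ 0 := by rintro rfl; exact hm0 hk
          refine split_of_nilpotent_even h2 hs hN hX hI (e := m - 1) ?_ ?_ (hmin _ (by omega))
          · exact ⟨k - 1, by omega⟩
          · rw [Nat.sub_add_cancel (by omega)]; exact hm
        · subst hk
          obtain ⟨v, hv⟩ := cyclic_of_nilpotent_odd hN hX hI h2 hs hm (hmin _ (by omega))
          exact split_of_cyclic h2 hs hX hv
    · unfold Indec at hI
      push Not at hI
      obtain ⟨U, hU, hUN, hU0, hU1⟩ := hI
      have hrefl : B.IsRefl := fun x y h => by rw [hs]; exact h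
      let U' := B.orthogonal U
      have hmem : ∀ y, y ∈ U' ↔ ∀ x ∈ U, B x y = 0 := fun y => LinearMap.BilinForm.mem_orthogonal_iff
      have hdis : Disjoint U U' := by
        rw [Submodule.disjoint_def]
        intro x hx hx2
        exact hUN x hx (fun y hy => by rw [hs]; exact (hmem x).1 hx2 y hy)
      have hc : IsCompl U U' := (LinearMap.BilinForm.isCompl_orthogonal_iff_disjoint hrefl).2 hdis
      have hU' : ∀ x ∈ U', X x ∈ U' := by
        intro y hy
        rw [hmem] at hy ⊢
        intro x hx
        have := hX x y
        rw [hy _ (hU x hx)] at this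
        rw [← neg_eq_zero, ← this]
      have hUN' : ∀ x ∈ U', (∀ y ∈ U', B x y = 0) → x = 0 := by
        intro x hx hx2
        apply hN
        exact orth_sup (fun y hy => by rw [hs]; exact (hmem x).1 hx y hy) hx2 (codisjoint_iff.1 hc.codisjoint)
      have hdim : finrank F U + finrank F U' = n := by rw [← hn]; exact Submodule.finrank_add_eq_of_isCompl hc
      have hp1 : 0 < finrank F U := by
        rw [Module.finrank_pos_iff]
        exact Submodule.nontrivial_iff_ne_bot.2 hU0
      have hp2 : finrank F U < n := by
        rw [← hn]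
        exact Submodule.finrank_lt hU1
      -- the restrictions
      have res : ∀ (W : Submodule F V), (∀ x ∈ W, X x ∈ W) → (∀ x ∈ W, (∀ y ∈ W, B x y = 0) → x = 0) →
          finrank F W < n → ∃ P M : Submodule F V, P ⊔ M = W ∧ (∀ x ∈ P, ∀ y ∈ M, B x y = 0) ∧
            (∀ x ∈ P, X x ∈ M) ∧ (∀ x ∈ M, X x ∈ P) ∧ finrank F P ≤ finrank F M + 1 ∧
            finrank F M ≤ finrank F P + 1 := by
        intro W hW hWN hWn
        obtain ⟨P, M, h⟩ := ih (finrank F W) hWn W (B.restrict W) (X.restrict hW) rfl
          (fun x y => hs x y) (fun x hx => Subtype.ext (hWN x x.2 (fun y hy => hx ⟨y, hy⟩)))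
          (fun x y => hX x y)
        refine ⟨P.map W.subtype, M.map W.subtype, ?_, ?_, ?_, ?_, ?_, ?_⟩
        · rw [← Submodule.map_sup, h.sup, Submodule.map_top, Submodule.range_subtype]
        · rintro _ ⟨x, hx, rfl⟩ _ ⟨y, hy, rfl⟩
          exact h.orth x hx y hy
        · rintro _ ⟨x, hx, rfl⟩
          exact ⟨_, h.pm x hx, rfl⟩
        · rintro _ ⟨x, hx, rfl⟩
          exact ⟨_, h.mp x hx, rfl⟩
        · rw [Submodule.finrank_map_subtype_eq, Submodule.finrank_map_subtype_eq]
          exact h.le
        · rw [Submodule.finrank_map_subtype_eq, Submodule.finrank_map_subtype_eq]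
          exact h.ge
      obtain ⟨P, M, hPM, ho, hpm, hmp, hle, hge⟩ := res U hU hUN hp2
      obtain ⟨P', M', hPM', ho', hpm', hmp', hle', hge'⟩ := res U' hU' hUN' (by omega)
      -- the combination
      have comb : ∀ (P M P' M' : Submodule F V), P ⊔ M = U → P' ⊔ M' = U' →
          (∀ x ∈ P, ∀ y ∈ M, B x y = 0) → (∀ x ∈ P', ∀ y ∈ M', B x y = 0) →
          (∀ x ∈ P, X x ∈ M) → (∀ x ∈ M, X x ∈ P) → (∀ x ∈ P', X x ∈ M') → (∀ x ∈ M', X x ∈ P') →
          finrank F P + finrank F P' ≤ finrank F M + finrank F M' + 1 →
          finrank F M + finrank F M' ≤ finrank F P + finrank F P' + 1 →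
          ∃ P M : Submodule F V, Split B X P M := by
        intro P M P' M' h1 h1' ho ho' hpm hmp hpm' hmp' hle hge
        have hP : P ≤ U := by rw [← h1]; exact le_sup_left
        have hM : M ≤ U := by rw [← h1]; exact le_sup_right
        have hP' : P' ≤ U' := by rw [← h1']; exact le_sup_left
        have hM' : M' ≤ U' := by rw [← h1']; exact le_sup_right
        have hd : ∀ (A A' : Submodule F V), A ≤ U → A' ≤ U' → finrank F (A ⊔ A' : Submodule F V) =
            finrank F A + finrank F A' := by
          intro A A' hA hA'
          rw [← Submodule.finrank_sup_add_finrank_inf_eq, (disjoint_iff.1 (hdis.mono hA hA')), finrank_bot, add_zero]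
        refine ⟨P ⊔ P', M ⊔ M', ?_, ?_, ?_, ?_, ?_, ?_⟩
        · rw [sup_sup_sup_comm, h1, h1']
          exact codisjoint_iff.1 hc.codisjoint
        · intro x hx y hy
          obtain ⟨a, ha, b, hb, rfl⟩ := Submodule.mem_sup.1 hx
          obtain ⟨c, hc, d, hd, rfl⟩ := Submodule.mem_sup.1 hy
          have e1 := ho a ha c hc
          have e2 := ho' b hb d hd
          have e3 : B a d = 0 := (hmem d).1 (hM' hd) a (hP ha)
          have e4 : B b c = 0 := by rw [hs]; exact (hmem b).1 (hP' hb) c (hM hc)
          simp only [map_add, LinearMap.add_apply, e1, e2, e3, e4, add_zero]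
        · intro x hx
          obtain ⟨a, ha, b, hb, rfl⟩ := Submodule.mem_sup.1 hx
          rw [map_add]
          exact Submodule.add_mem_sup (hpm a ha) (hpm' b hb)
        · intro x hx
          obtain ⟨a, ha, b, hb, rfl⟩ := Submodule.mem_sup.1 hx
          rw [map_add]
          exact Submodule.add_mem_sup (hmp a ha) (hmp' b hb)
        · rw [hd _ _ hP hP', hd _ _ hM hM']; exact hle
        · rw [hd _ _ hP hP', hd _ _ hM hM']; exact hge
      by_cases hcase : finrank F P + finrank F P' ≤ finrank F M + finrank F M' + 1 ∧
          finrank F M + finrank F M' ≤ finrank F P + finrank F P' + 1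
      · exact comb P M P' M' hPM hPM' ho ho' hpm hmp hpm' hmp' hcase.1 hcase.2
      · refine comb P M M' P' hPM (by rw [sup_comm]; exact hPM') ho (fun x hx y hy => by
          rw [hs]; exact ho' y hy x hx) hpm hmp hmp' hpm' ?_ ?_ <;> omega

end Cfsg.Agent.H146.Ore
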